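import Groth.Prelude.Def_W4c5normfunctorschNorm
import Groth.Agent.PLaw.Gamma
import Mathlib.RingTheory.Norm.Basic
import Mathlib.RingTheory.Norm.Defs
import Mathlib.RingTheory.TensorProduct.Free

/-!
# Universal normic pairs commute with base change
-/

set_option autoImplicit false

universe u

open scoped TensorProduct

namespace Groth.Agent.NormicBC70

open Groth.Agent.PLaw (compat)

variable {R R' Q Q' : Type u} [CommRing R] [CommRing R'] [Algebra R R']
  [CommRing Q] [Algebra R Q] [CommRing Q'] [Algebra R Q'] [Algebra Q Q'] [Algebra R' Q']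
  [IsScalarTower R Q Q'] [IsScalarTower R R' Q']

theorem norm_rTensor [Module.Free R R'] [Module.Finite R R'] {S S' : Type u} [CommRing S] [Algebra R S]
    [CommRing S'] [Algebra R S'] (φ : S →ₐ[R] S') (x : S ⊗[R] R') :
    Algebra.norm S' (Algebra.TensorProduct.map φ (AlgHom.id R R') x) = φ (Algebra.norm S x) := by
  classical
  let b := Module.Free.chooseBasis R R'
  let bS := Algebra.TensorProduct.basis S b
  let bS' := Algebra.TensorProduct.basis S' b
  rw [Algebra.norm_eq_matrix_det bS, Algebra.norm_eq_matrix_det bS', AlgHom.map_det]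
  congr 1
  ext i j
  rw [AlgHom.mapMatrix_apply, Matrix.map_apply, Algebra.leftMulMatrix_eq_repr_mul, Algebra.leftMulMatrix_eq_repr_mul]
  have h : ∀ y, bS'.repr (Algebra.TensorProduct.map φ (AlgHom.id R R') y) i = φ (bS.repr y i) := fun y => by
    induction y using TensorProduct.induction_on with
    | zero => simp
    | tmul s r => simp [bS, bS', Algebra.smul_def]
    | add u v hu hv => simp [map_add, hu, hv]
  rw [← h, map_mul (Algebra.TensorProduct.map φ (AlgHom.id R R'))]
  congr 3
  simp [bS, bS']

section bc

variable {X : Type u} [AddCommGroup X] [Module R X]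
  {Y : Type u} [AddCommGroup Y] [Module R Y] [Module Q Y] [IsScalarTower R Q Y]
  (g : X →ₗ[R] Y) {P : Type u} [CommRing P] [Algebra R P] [Algebra Q P] [IsScalarTower R Q P]

theorem bcAlong_tmul (p : P) (x : X) : PolLaw.bcAlong g P (p ⊗ₜ[R] x) = p ⊗ₜ[Q] g x := by
  simp [PolLaw.bcAlong]

theorem bcAlong_smul (p : P) (z : P ⊗[R] X) :
    PolLaw.bcAlong (Q := Q) g P (p • z) = p • PolLaw.bcAlong (Q := Q) g P z := by
  induction z using TensorProduct.induction_on with
  | zero => simp
  | tmul a x => simp [TensorProduct.smul_tmul', bcAlong_tmul]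
  | add u v hu hv => simp only [smul_add, map_add, hu, hv]

theorem bcAlong_natural {P' : Type u} [CommRing P'] [Algebra R P'] [Algebra Q P'] [IsScalarTower R Q P']
    (ψ : P →ₐ[Q] P') (z : P ⊗[R] X) :
    ψ.toLinearMap.rTensor Y (PolLaw.bcAlong g P z) =
      PolLaw.bcAlong g P' ((ψ.restrictScalars R).toLinearMap.rTensor X z) := by
  induction z using TensorProduct.induction_on with
  | zero => simp
  | tmul a x => simp [bcAlong_tmul]
  | add u v hu hv => simp only [map_add, hu, hv]

theorem bcAlong_bijective (hg : IsBaseChange Q g) : Function.Bijective (PolLaw.bcAlong (Q := Q) g P) := by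
  have h : (g.liftBaseChange Q) = hg.equiv.toLinearMap := by
    ext x
    simp [IsBaseChange.equiv_tmul]
  simp only [PolLaw.bcAlong, h, LinearMap.coe_comp, LinearMap.coe_restrictScalars, LinearEquiv.coe_coe]
  exact Function.Bijective.comp (LinearEquiv.lTensor P hg.equiv).bijective (LinearEquiv.bijective _)

end bc

/-- `(Q ⊗ S) ⊗_Q E → S ⊗_R E`, `(q ⊗ s) ⊗ e ↦ s ⊗ q • e`. -/
noncomputable def outMap (S : Type u) [CommRing S] [Algebra R S] (E : Type u) [AddCommGroup E] [Module R E]
    [Module Q E] [IsScalarTower R Q E] : (Q ⊗[R] S) ⊗[Q] E →ₗ[R] S ⊗[R] E :=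
  (TensorProduct.comm R E S).toLinearMap ∘ₗ
    ((TensorProduct.AlgebraTensorModule.cancelBaseChange R Q Q E S).toLinearMap.restrictScalars R ∘ₗ
      ((TensorProduct.comm Q (Q ⊗[R] S) E).toLinearMap.restrictScalars R))

theorem outMap_tmul (S : Type u) [CommRing S] [Algebra R S] (E : Type u) [AddCommGroup E] [Module R E]
    [Module Q E] [IsScalarTower R Q E] (q : Q) (s : S) (e : E) :
    outMap S E ((q ⊗ₜ[R] s) ⊗ₜ[Q] e) = s ⊗ₜ[R] (q • e) := by
  simp [outMap]

variable {M' : Type u} [AddCommGroup M'] [Module R M'] [Module R' M'] [IsScalarTower R R' M']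
  {M'' : Type u} [AddCommGroup M''] [Module R M''] [Module R' M''] [Module Q M''] [Module Q' M'']
  [IsScalarTower R R' M''] [IsScalarTower R Q M''] [IsScalarTower R' Q' M''] [IsScalarTower Q Q' M'']
  (f : M' →ₗ[R'] M'')

theorem isBaseChange_restrict [Algebra.IsPushout R R' Q Q'] (hf : IsBaseChange Q' f) :
    IsBaseChange Q (f.restrictScalars R) := by
  haveI : Algebra.IsPushout R Q R' Q' := Algebra.IsPushout.symm inferInstance
  refine IsBaseChange.of_equiv
    ((Algebra.IsPushout.cancelBaseChange R Q R' Q' M').symm.trans (hf.equiv.restrictScalars Q)) fun m => ?_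
  simp only [LinearEquiv.trans_apply, LinearEquiv.restrictScalars_apply]
  rw [show (Algebra.IsPushout.cancelBaseChange R Q R' Q' M').symm (1 ⊗ₜ m) = algebraMap Q Q' 1 ⊗ₜ[R'] m from
    Algebra.IsPushout.cancelBaseChange_symm_tmul .., map_one, IsBaseChange.equiv_tmul, one_smul]
  rfl

section test

variable (P : Type u) [CommRing P] [Algebra R P] [Algebra Q P] [IsScalarTower R Q P]

/-- The comparison of the test algebras `P ⊗_R R' ≅ P ⊗_Q Q'`. -/
noncomputable def algEquivP [Algebra.IsPushout R R' Q Q'] : P ⊗[R] R' ≃ₐ[P] P ⊗[Q] Q' :=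
  haveI : Algebra.IsPushout R Q R' Q' := Algebra.IsPushout.symm inferInstance
  (Algebra.TensorProduct.cancelBaseChange R Q P P R').symm.trans
    (Algebra.TensorProduct.congr (AlgEquiv.refl : P ≃ₐ[P] P) (Algebra.IsPushout.equiv R Q R' Q'))

theorem algEquivP_tmul [Algebra.IsPushout R R' Q Q'] (p : P) (r : R') :
    algEquivP (Q := Q) (Q' := Q') P (p ⊗ₜ[R] r) = p ⊗ₜ[Q] algebraMap R' Q' r := by
  simp [algEquivP, Algebra.IsPushout.equiv_tmul]

theorem bcAlong_actEnd [Algebra.IsPushout R R' Q Q'] (x : P ⊗[R] R') (m : P ⊗[R] M') :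
    PolLaw.bcAlong (f.restrictScalars R) P (PolLaw.actEnd M' P x m) =
      PolLaw.actEnd M'' P (algEquivP (Q := Q) (Q' := Q') P x) (PolLaw.bcAlong (f.restrictScalars R) P m) := by
  induction x using TensorProduct.induction_on with
  | zero => simp
  | tmul p r =>
    induction m using TensorProduct.induction_on with
    | zero => simp
    | tmul t m =>
      rw [PolLaw.actEnd_tmul_tmul, bcAlong_tmul, algEquivP_tmul, bcAlong_tmul, PolLaw.actEnd_tmul_tmul]
      simp
    | add u v hu hv => simp only [map_add, hu, hv]
  | add u v hu hv => simp only [map_add, LinearMap.add_apply, hu, hv]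

end test

variable {E : Type u} [AddCommGroup E] [Module R E] [Module Q E] [IsScalarTower R Q E]

section restrict

variable (μ : M'' →ₚₗ[Q] E)

/-- The member of the restricted law at a test ring. -/
noncomputable def restrictFun (S : Type u) [CommRing S] [Algebra R S] (x : S ⊗[R] M') : S ⊗[R] E :=
  outMap S E (μ.toFun' (Q ⊗[R] S) (PolLaw.bcAlong (f.restrictScalars R) (Q ⊗[R] S)
    ((Algebra.TensorProduct.includeRight : S →ₐ[R] Q ⊗[R] S).toLinearMap.rTensor M' x)))

theorem restrictFun_natural {S S' : Type u} [CommRing S] [Algebra R S] [CommRing S'] [Algebra R S']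
    (ψ : S →ₐ[R] S') (x : S ⊗[R] M') :
    ψ.toLinearMap.rTensor E (restrictFun f μ S x) = restrictFun f μ S' (ψ.toLinearMap.rTensor M' x) := by
  let Ψ : Q ⊗[R] S →ₐ[Q] Q ⊗[R] S' := Algebra.TensorProduct.map (AlgHom.id Q Q) ψ
  have h1 : ∀ w, ψ.toLinearMap.rTensor E (outMap S E w) = outMap S' E (Ψ.toLinearMap.rTensor E w) := fun w => by
    induction w using TensorProduct.induction_on with
    | zero => simp
    | tmul v e =>
      induction v using TensorProduct.induction_on with
      | zero => simp
      | tmul a s => simp [Ψ, outMap_tmul]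
      | add u v hu hv => simp only [TensorProduct.add_tmul, map_add, hu, hv]
    | add u v hu hv => simp only [map_add, hu, hv]
  simp only [restrictFun]
  rw [h1, compat, bcAlong_natural, ← LinearMap.comp_apply, ← LinearMap.rTensor_comp,
    ← LinearMap.comp_apply, ← LinearMap.rTensor_comp]
  congr 5

/-- A law over `Q` out of `M''` restricted to a law over `R` out of `M'`. -/
noncomputable def restrict : M' →ₚₗ[R] E where
  toFun' S _ i x :=
    letI : CommRing S := { Algebra.semiringToRing R, ‹CommSemiring S› with }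
    restrictFun f μ S x
  isCompat' {S} _ _ {S'} _ _ ψ := by
    funext x
    letI : CommRing S := { Algebra.semiringToRing R, ‹CommSemiring S› with }
    letI : CommRing S' := { Algebra.semiringToRing R, ‹CommSemiring S'› with }
    exact restrictFun_natural f μ ψ x

theorem restrict_apply (S : Type u) [i : CommRing S] [Algebra R S] (x : S ⊗[R] M') :
    (restrict (R := R) f μ).toFun' S x = restrictFun f μ S x := by
  simp only [restrict]
  congr 1

theorem isNormic_restrict [Module.Free R R'] [Module.Finite R R'] [Algebra.IsPushout R R' Q Q']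
    (hμ : PolLaw.IsNormic Q' μ) : PolLaw.IsNormic R' (restrict (R := R) f μ) := by
  intro S _ _ x m
  rw [restrict_apply, restrict_apply]
  simp only [restrictFun]
  rw [PolLaw.rTensor_actEnd, bcAlong_actEnd (Q := Q) (Q' := Q'), hμ, Algebra.norm_eq_of_algEquiv,
    norm_rTensor]
  generalize μ.toFun' (Q ⊗[R] S) _ = w
  induction w using TensorProduct.induction_on with
  | zero => simp
  | tmul v e =>
    induction v using TensorProduct.induction_on with
    | zero => simp
    | tmul a t => simp [outMap_tmul, TensorProduct.smul_tmul']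
    | add u v hu hv => simp only [smul_add, TensorProduct.add_tmul, map_add, hu, hv]
  | add u v hu hv => simp only [smul_add, map_add, hu, hv]

theorem restrict_spec (P : Type u) [CommRing P] [Algebra R P] [Algebra Q P] [IsScalarTower R Q P]
    (m : P ⊗[R] M') :
    PolLaw.bcAlong (LinearMap.id (R := R) (M := E)) P ((restrict (R := R) f μ).toFun' P m) =
      μ.toFun' P (PolLaw.bcAlong (f.restrictScalars R) P m) := by
  let π : Q ⊗[R] P →ₐ[Q] P :=
    Algebra.TensorProduct.lift (Algebra.ofId Q P) (AlgHom.id R P) (fun _ _ => Commute.all _ _)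
  have h2 : ∀ w, PolLaw.bcAlong (LinearMap.id (R := R) (M := E)) P (outMap P E w) = π.toLinearMap.rTensor E w := fun w => by
    induction w using TensorProduct.induction_on with
    | zero => simp
    | tmul v e =>
      induction v using TensorProduct.induction_on with
      | zero => simp
      | tmul a r => simp [outMap_tmul, bcAlong_tmul, π, ← Algebra.smul_def, TensorProduct.smul_tmul]
      | add u v hu hv => simp only [TensorProduct.add_tmul, map_add, hu, hv]
    | add u v hu hv => simp only [map_add, hu, hv]
  rw [restrict_apply, restrictFun, h2, compat, bcAlong_natural]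
  congr 2
  rw [← LinearMap.comp_apply, ← LinearMap.rTensor_comp]
  have : (π.restrictScalars R).toLinearMap ∘ₗ
      (Algebra.TensorProduct.includeRight : P →ₐ[R] Q ⊗[R] P).toLinearMap = LinearMap.id :=
    LinearMap.ext fun r => by simp [π]
  rw [this, LinearMap.rTensor_id, LinearMap.id_apply]

end restrict

variable [Algebra.IsPushout R R' Q Q'] (hf : IsBaseChange Q' f)
  {N : Type u} [AddCommGroup N] [Module R N]

/-- The base change of a law out of `M'` to a law over `Q` out of `M''`. -/
noncomputable def extend (ν : M' →ₚₗ[R] N) : M'' →ₚₗ[Q] Q ⊗[R] N where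
  toFun' P _ _ z :=
    letI : CommRing P := { Algebra.semiringToRing Q, ‹CommSemiring P› with }
    letI : Algebra R P := ((algebraMap Q P).comp (algebraMap R Q)).toAlgebra
    haveI : IsScalarTower R Q P := IsScalarTower.of_algebraMap_eq' rfl
    PolLaw.bcAlong (TensorProduct.mk R Q N 1) P
      (ν.toFun' P ((Equiv.ofBijective _ (bcAlong_bijective (f.restrictScalars R) (isBaseChange_restrict f hf))).symm z))
  isCompat' {P} _ _ {P'} _ _ ψ := by
    letI : CommRing P := { Algebra.semiringToRing Q, ‹CommSemiring P› with }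
    letI : CommRing P' := { Algebra.semiringToRing Q, ‹CommSemiring P'› with }
    letI : Algebra R P := ((algebraMap Q P).comp (algebraMap R Q)).toAlgebra
    haveI : IsScalarTower R Q P := IsScalarTower.of_algebraMap_eq' rfl
    letI : Algebra R P' := ((algebraMap Q P').comp (algebraMap R Q)).toAlgebra
    haveI : IsScalarTower R Q P' := IsScalarTower.of_algebraMap_eq' rfl
    funext z
    obtain ⟨x, rfl⟩ := (bcAlong_bijective (P := P) (f.restrictScalars R) (isBaseChange_restrict f hf)).2 z
    simp only [Function.comp_apply, bcAlong_natural]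
    rw [Equiv.ofBijective_symm_apply_apply, Equiv.ofBijective_symm_apply_apply, ← compat]

theorem extend_apply (ν : M' →ₚₗ[R] N) (P : Type u) [i : CommRing P] [iR : Algebra R P] [Algebra Q P]
    [IsScalarTower R Q P] (m : P ⊗[R] M') :
    (extend f hf ν).toFun' P (PolLaw.bcAlong (f.restrictScalars R) P m) =
      PolLaw.bcAlong (TensorProduct.mk R Q N 1) P (ν.toFun' P m) := by
  have hR : iR = ((algebraMap Q P).comp (algebraMap R Q)).toAlgebra :=
    Algebra.algebra_ext _ _ fun a => IsScalarTower.algebraMap_apply R Q P a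
  subst hR
  simp only [extend]
  congr 2
  exact (Equiv.symm_apply_eq _).mpr rfl

theorem isNormic_extend [Module.Free R R'] [Module.Finite R R'] (ν : M' →ₚₗ[R] N)
    (hν : PolLaw.IsNormic R' ν) : PolLaw.IsNormic Q' (extend (Q := Q) f hf ν) := by
  intro P _ _ y z
  letI : Algebra R P := ((algebraMap Q P).comp (algebraMap R Q)).toAlgebra
  haveI : IsScalarTower R Q P := IsScalarTower.of_algebraMap_eq' rfl
  obtain ⟨x, rfl⟩ := (algEquivP (R := R) (R' := R') (Q := Q) (Q' := Q') P).surjective y
  obtain ⟨m, rfl⟩ := (bcAlong_bijective (P := P) (f.restrictScalars R) (isBaseChange_restrict f hf)).2 z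
  rw [← bcAlong_actEnd, extend_apply, extend_apply, hν, bcAlong_smul, Algebra.norm_eq_of_algEquiv]

theorem exists_isBaseChange [Module.Free R R'] [Module.Finite R R'] (ν : M' →ₚₗ[R] N)
    (hν : PolLaw.IsUnivNormic R' ν) (hf : IsBaseChange Q' f)
    (ν'' : M'' →ₚₗ[Q] E) (hν'' : PolLaw.IsUnivNormic Q' ν'') :
    ∃ u : N →ₗ[R] E,
      (∀ (P : Type u) [CommRing P] [Algebra R P] [Algebra Q P] [IsScalarTower R Q P] (m : P ⊗[R] M'),
          ν''.toFun' P (PolLaw.bcAlong (f.restrictScalars R) P m) = PolLaw.bcAlong u P (ν.toFun' P m)) ∧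
      IsBaseChange Q u := by
  obtain ⟨u, hu, -⟩ := hν.2 E (restrict (R := R) f ν'') (isNormic_restrict f ν'' hν''.1)
  have hcomp : ∀ (P : Type u) [CommRing P] [Algebra R P] [Algebra Q P] [IsScalarTower R Q P]
      (m : P ⊗[R] M'),
      ν''.toFun' P (PolLaw.bcAlong (f.restrictScalars R) P m) = PolLaw.bcAlong u P (ν.toFun' P m) := by
    intro P _ _ _ _ m
    rw [← restrict_spec, ← hu, PLaw.postcomp_apply]
    generalize ν.toFun' P m = w
    induction w using TensorProduct.induction_on with
    | zero => simp
    | tmul p x => simp [bcAlong_tmul]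
    | add a b ha hb => simp only [map_add, ha, hb]
  refine ⟨u, hcomp, ?_⟩
  obtain ⟨φ, hφ, -⟩ := hν''.2 _ (extend (Q := Q) f hf ν) (isNormic_extend f hf ν hν.1)
  have hUφ : u.liftBaseChange Q ∘ₗ φ = LinearMap.id := by
    obtain ⟨χ, -, huniq⟩ := hν''.2 E ν'' hν''.1
    refine (huniq _ ?_).trans (huniq _ ?_).symm
    · refine PolynomialLaw.ext ?_
      funext P i1 i2 z
      letI : CommRing P := { Algebra.semiringToRing Q, ‹CommSemiring P› with }
      letI : Algebra R P := ((algebraMap Q P).comp (algebraMap R Q)).toAlgebra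
      haveI : IsScalarTower R Q P := IsScalarTower.of_algebraMap_eq' rfl
      obtain ⟨m, rfl⟩ := (bcAlong_bijective (P := P) (f.restrictScalars R) (isBaseChange_restrict f hf)).2 z
      rw [PLaw.postcomp_apply, LinearMap.lTensor_comp, LinearMap.comp_apply, ← PLaw.postcomp_apply φ ν'', hφ,
        extend_apply, hcomp]
      generalize ν.toFun' P m = w
      induction w using TensorProduct.induction_on with
      | zero => simp
      | tmul p x => simp [bcAlong_tmul]
      | add a b ha hb => simp only [map_add, ha, hb]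
    · refine PolynomialLaw.ext ?_
      funext P i1 i2 z
      simp [PLaw.postcomp_apply]
  have hφu : φ.restrictScalars R ∘ₗ u = TensorProduct.mk R Q N 1 := by
    have hres : PolLaw.postcomp (TensorProduct.mk R Q N 1) ν = restrict (R := R) f (extend (Q := Q) f hf ν) := by
      refine PolynomialLaw.ext ?_
      funext S i1 i2 x
      letI : CommRing S := { Algebra.semiringToRing R, ‹CommSemiring S› with }
      rw [PLaw.postcomp_apply, restrict_apply, restrictFun, extend_apply, ← compat]
      generalize ν.toFun' S x = w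
      induction w using TensorProduct.induction_on with
      | zero => simp
      | tmul p x => simp [bcAlong_tmul, outMap_tmul]
      | add a b ha hb => simp only [map_add, ha, hb]
    obtain ⟨χ, -, huniq⟩ := hν.2 (Q ⊗[R] N) (restrict (R := R) f (extend (Q := Q) f hf ν))
      (isNormic_restrict f _ (isNormic_extend f hf ν hν.1))
    refine (huniq _ ?_).trans (huniq _ hres).symm
    refine PolynomialLaw.ext ?_
    funext S i1 i2 x
    letI : CommRing S := { Algebra.semiringToRing R, ‹CommSemiring S› with }
    rw [PLaw.postcomp_apply, LinearMap.lTensor_comp, LinearMap.comp_apply, ← PLaw.postcomp_apply u ν, hu,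
      restrict_apply, restrict_apply, restrictFun, restrictFun, ← hφ, PLaw.postcomp_apply]
    generalize ν''.toFun' (Q ⊗[R] S) _ = w
    induction w using TensorProduct.induction_on with
    | zero => simp
    | tmul v e =>
      induction v using TensorProduct.induction_on with
      | zero => simp
      | tmul a t => simp [outMap_tmul]
      | add a b ha hb => simp only [TensorProduct.add_tmul, map_add, ha, hb]
    | add a b ha hb => simp only [map_add, ha, hb]
  refine IsBaseChange.of_equiv (LinearEquiv.ofLinear (u.liftBaseChange Q) φ hUφ ?_) fun x => (show u.liftBaseChange Q (1 ⊗ₜ[R] x) = u x by simp)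
  ext x
  simpa using LinearMap.congr_fun hφu x

end Groth.Agent.NormicBC70
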